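import Mathlib
/-!
Kernel ideal sheaf of a morphism out of a reduced scheme.
-/
universe u
open AlgebraicGeometry CategoryTheory TopologicalSpace Opposite
set_option backward.isDefEq.respectTransparency false

namespace Groth.Agent.RedKer

/-- kernel ideals commute with basic opens when the source is reduced -/
theorem map_ker_basicOpen {X Y : Scheme.{u}} [IsReduced X] (π : X ⟶ Y) (U : Y.affineOpens)
    (s : Γ(Y, U.1)) :
    (RingHom.ker (π.app U.1).hom).map (Y.presheaf.map (homOfLE (Y.basicOpen_le s)).op).hom =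
      RingHom.ker (π.app (Y.basicOpen s)).hom := by
  apply le_antisymm
  · refine Ideal.map_le_iff_le_comap.mpr fun x hx => ?_
    rw [Ideal.mem_comap, RingHom.mem_ker, ← CommRingCat.comp_apply, π.naturality,
      CommRingCat.comp_apply, RingHom.mem_ker.1 hx, map_zero]
  · intro x hx
    have := U.2.isLocalization_basicOpen s
    obtain ⟨a, ⟨_, n, rfl⟩, rfl⟩ := IsLocalization.exists_mk'_eq (.powers s) x
    have h0 : (π.app U.1).hom (a * s) = 0 := by
      apply eq_zero_of_basicOpen_eq_bot
      rw [map_mul, Scheme.basicOpen_mul]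
      have ha : (Y.presheaf.map (homOfLE (Y.basicOpen_le s)).op ≫ π.app (Y.basicOpen s)).hom a = 0 := by
        trans (π.app (Y.basicOpen s)).hom (algebraMap Γ(Y, U.1) _ a)
        · rfl
        · rw [← IsLocalization.mk'_spec' (M := .powers s), map_mul, RingHom.mem_ker.1 hx, mul_zero]
      rw [π.naturality] at ha
      have hb := Scheme.basicOpen_res (X := X) ((π.app U.1).hom a)
        ((Opens.map π.base).map (homOfLE (Y.basicOpen_le s))).op
      simp only [CommRingCat.hom_comp, RingHom.comp_apply] at ha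
      erw [ha] at hb
      rw [Scheme.basicOpen_zero] at hb
      rw [inf_comm, ← Scheme.preimage_basicOpen π s]
      exact hb.symm
    exact (IsLocalization.mk'_mem_map_algebraMap_iff (.powers s) _ _ _ _).mpr
      ⟨s, Submonoid.mem_powers s, by rw [mul_comm]; exact h0⟩

theorem ker_apply {X Y : Scheme.{u}} [IsReduced X] (π : X ⟶ Y) (U : Y.affineOpens) :
    π.ker.ideal U = RingHom.ker (π.app U.1).hom := by
  let I : Y.IdealSheafData :=
    ⟨fun U => RingHom.ker (π.app U.1).hom, fun U s => map_ker_basicOpen π U s, _, rfl⟩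
  exact congr($(Scheme.IdealSheafData.ofIdeals_ideal I).ideal U)

theorem support_ker {X Y : Scheme.{u}} [IsReduced X] (π : X ⟶ Y) :
    (π.ker.support : Set Y) = closure (Set.range π) := by
  refine subset_antisymm (fun y hy => ?_)
    (π.ker.support.isClosed.closure_subset_iff.2 π.range_subset_ker_support)
  by_contra hc
  obtain ⟨V, hV, hyV, -⟩ := exists_isAffineOpen_mem_and_subset (show y ∈ (⊤ : Y.Opens) from trivial)
  obtain ⟨r, hr, hyr⟩ := hV.exists_basicOpen_le
    (V := ⟨(closure (Set.range π))ᶜ, isClosed_closure.isOpen_compl⟩) (⟨y, hc⟩) hyV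
  have hr0 : r ∈ RingHom.ker (π.app V).hom := by
    rw [RingHom.mem_ker]
    apply eq_zero_of_basicOpen_eq_bot
    rw [eq_bot_iff, ← Scheme.preimage_basicOpen]
    intro x hx
    exact hr hx (subset_closure ⟨x, rfl⟩)
  rw [← ker_apply π ⟨V, hV⟩] at hr0
  have h := (π.ker.coe_support_inter ⟨V, hV⟩).le ⟨hy, hyV⟩
  exact (Scheme.mem_zeroLocus_iff _ _ _).1 h.1 r hr0 hyr

end Groth.Agent.RedKer

namespace Groth.Agent.RedKer

/-- a morphism out of a reduced scheme with image inside a closed set factors through its reduced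
subscheme -/
theorem vanishingIdeal_le_ker {X Y : Scheme.{u}} [IsReduced X] (π : X ⟶ Y) (Z : Closeds Y)
    (h : Set.range π ⊆ Z) : Scheme.IdealSheafData.vanishingIdeal Z ≤ π.ker := by
  refine Scheme.IdealSheafData.le_ofIdeals_iff.2 fun U a ha => ?_
  rw [RingHom.mem_ker]
  apply eq_zero_of_basicOpen_eq_bot
  rw [eq_bot_iff, ← Scheme.preimage_basicOpen]
  intro x hx
  have hmem : π x ∈ ((Scheme.IdealSheafData.vanishingIdeal Z).support : Set Y) := h ⟨x, rfl⟩
  have h' := ((Scheme.IdealSheafData.vanishingIdeal Z).coe_support_inter U).le ⟨hmem, Y.basicOpen_le a hx⟩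
  exact (Scheme.mem_zeroLocus_iff _ _ _).1 h'.1 a ha hx

end Groth.Agent.RedKer
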